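/-
The numbers of totally isotropic subspaces of symplectic spaces: recursions and alternating sums.
Main results (namespace `Cfsg.Agent.SpUnipotentCount`): `bb_ratio`, `sum_mu_bb`, `sum_mu_aa`.
-/
import Cfsg.Agent.EqLemmas

set_option autoImplicit false
set_option linter.unusedSectionVars false

namespace Cfsg.Agent.SpUnipotentCount

/-- The number of totally isotropic `k`-subspaces of a symplectic space of dimension `2m`. -/
def bb (q : ℤ) : ℕ → ℕ → ℤ
  | 0, 0 => 1
  | 0, _ + 1 => 0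
  | _ + 1, 0 => 1
  | m + 1, k + 1 => q ^ (k + 1) * bb q m (k + 1) + (1 + q ^ (2 * m + 1 - k)) * bb q m k

/-- The exponent for the unipotent elements fixing a totally isotropic subspace. -/
def ex : ℕ → ℕ → ℕ
  | m, 0 => 2 * m ^ 2
  | 0, _ + 1 => 0
  | m + 1, k + 1 => ex m k + (2 * m + 1 - k)

/-- The weight of a subspace of dimension `k`. -/
def mu (q : ℤ) (k : ℕ) : ℤ := (-1) ^ k * q ^ k.choose 2

theorem bb_zero (q : ℤ) (m : ℕ) : bb q m 0 = 1 := by cases m <;> rfl

theorem ex_zero (m : ℕ) : ex m 0 = 2 * m ^ 2 := by cases m <;> rfl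

theorem mu_zero (q : ℤ) : mu q 0 = 1 := by simp [mu]

theorem mu_succ (q : ℤ) (k : ℕ) : mu q (k + 1) = -(q ^ k) * mu q k := by
  rw [mu, mu, Nat.choose_succ_succ', Nat.choose_one_right, pow_add, pow_succ]
  ring

theorem bb_of_lt (q : ℤ) : ∀ {m k : ℕ}, m < k → bb q m k = 0
  | 0, _ + 1, _ => rfl
  | m + 1, k + 1, h => by
    rw [bb, bb_of_lt q (show m < k + 1 by omega), bb_of_lt q (show m < k by omega)]
    ring
  | m, 0, h => absurd h (by omega)

theorem ex_add {m : ℕ} : ∀ {k : ℕ}, k ≤ m → ex m k + k.choose 2 = m ^ 2 + (m - k) ^ 2 := by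
  induction m with
  | zero =>
    intro k hk
    obtain rfl : k = 0 := by omega
    simp [ex_zero]
  | succ m ih =>
    intro k hk
    cases k with
    | zero => rw [ex]; simp; ring
    | succ k =>
      have := ih (show k ≤ m by omega)
      rw [ex, show (k + 1).choose 2 = k + k.choose 2 by rw [Nat.choose_succ_succ', Nat.choose_one_right],
        show m + 1 - (k + 1) = m - k by omega]
      have e : (m + 1) ^ 2 = m ^ 2 + 2 * m + 1 := by ring
      omega

theorem bb_ratio {q : ℤ} (hq : 2 ≤ q) : ∀ (m k : ℕ),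
    (q ^ (k + 1) - 1) * bb q (m + 1) (k + 1) = (q ^ (2 * (m + 1)) - 1) * bb q m k := by
  intro m
  induction m with
  | zero =>
    intro k
    cases k with
    | zero => simp [bb]; ring
    | succ k => rw [bb_of_lt q (show 1 < k + 1 + 1 by omega), bb_of_lt q (show 0 < k + 1 by omega)]; ring
  | succ m ih =>
    intro k
    rw [show bb q (m + 1 + 1) (k + 1) =
      q ^ (k + 1) * bb q (m + 1) (k + 1) + (1 + q ^ (2 * (m + 1) + 1 - k)) * bb q (m + 1) k from rfl]
    cases k with
    | zero =>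
      have h0 := ih 0
      rw [bb_zero] at h0 ⊢
      simp only [zero_add, pow_one, Nat.sub_zero] at h0 ⊢
      rw [show (q - 1) * (q * bb q (m + 1) 1 + (1 + q ^ (2 * (m + 1) + 1)) * 1) =
        q * ((q - 1) * bb q (m + 1) 1) + (q - 1) * (1 + q ^ (2 * (m + 1) + 1)) by ring, h0]
      ring
    | succ k =>
      by_cases hkm : k ≤ m
      swap
      · rw [bb_of_lt q (show m + 1 < k + 1 + 1 by omega), bb_of_lt q (show m + 1 < k + 1 by omega)]; ring
      have h1 := ih (k + 1)
      have h2 := ih k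
      have h3 : bb q (m + 1) (k + 1) = q ^ (k + 1) * bb q m (k + 1) + (1 + q ^ (2 * m + 1 - k)) * bb q m k := rfl
      obtain ⟨d, hd⟩ : ∃ d, 2 * m + 1 = k + d := ⟨2 * m + 1 - k, by omega⟩
      rw [show 2 * m + 1 - k = d by omega] at h3
      rw [show 2 * (m + 1) + 1 - (k + 1) = d + 1 by omega]
      have hne : q ^ (k + 1) - 1 ≠ 0 := by
        have : q ≤ q ^ (k + 1) := le_self_pow₀ (by omega) (by omega)
        omega
      apply mul_left_cancel₀ hne
      have e1 : q ^ (2 * (m + 1)) = q ^ (k + 1) * q ^ d := by rw [← pow_add]; congr 1; omega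
      have e2 : q ^ (2 * (m + 1 + 1)) = q ^ (k + 1) * q ^ d * q * q := by
        rw [← e1, mul_assoc, ← sq, ← pow_add]; congr 1
      rw [e1] at h1 h2
      rw [e2]
      have key : bb q m k * (q ^ d - q ^ (k + 1)) = (q ^ (k + 1) - 1) * q ^ (k + 1) * bb q m (k + 1) := by
        linear_combination (-1 : ℤ) * h2 + (q ^ (k + 1) - 1) * h3
      linear_combination ((q ^ (k + 1) - 1) * q ^ (k + 1 + 1)) * h1 +
        (q ^ (k + 1 + 1) - q ^ (d + 1)) * h2 - (q * (q ^ (k + 1) * q ^ d - 1)) * key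

theorem sum_mu_bb (q : ℤ) : ∀ m : ℕ, ∑ k ∈ Finset.range (m + 1), mu q k * bb q m k = (-1) ^ m * q ^ m ^ 2 := by
  intro m
  induction m with
  | zero => simp [mu_zero, bb]
  | succ m ih =>
    rw [Finset.sum_range_succ', mu_zero, bb_zero, one_mul]
    have step : ∀ k ∈ Finset.range (m + 1), mu q (k + 1) * bb q (m + 1) (k + 1) =
        (mu q (k + 1) * q ^ (k + 1) * bb q m (k + 1) - mu q k * q ^ k * bb q m k) - q ^ (2 * m + 1) * (mu q k * bb q m k) := by
      intro k hk
      rw [bb, mu_succ]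
      rw [Finset.mem_range] at hk
      obtain ⟨d, hd⟩ : ∃ d, 2 * m + 1 = k + d := ⟨2 * m + 1 - k, by omega⟩
      rw [show 2 * m + 1 - k = d by omega, hd, pow_add]
      ring
    rw [Finset.sum_congr rfl step, Finset.sum_sub_distrib, ← Finset.mul_sum, ih,
      Finset.sum_range_sub (f := fun k => mu q k * q ^ k * bb q m k), bb_of_lt q (show m < m + 1 by omega), mu_zero,
      bb_zero]
    rw [show (m + 1) ^ 2 = m ^ 2 + (2 * m + 1) by ring, pow_add, pow_succ (-1 : ℤ)]
    ring

theorem sum_sq_bb (q : ℤ) : ∀ m : ℕ,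
    ∑ k ∈ Finset.range (m + 1), (-1) ^ k * bb q m k * q ^ (m - k) ^ 2 = (-1) ^ m := by
  intro m
  induction m with
  | zero => simp [bb]
  | succ m ih =>
    rw [Finset.sum_range_succ', bb_zero]
    have step : ∀ k ∈ Finset.range (m + 1), (-1) ^ (k + 1) * bb q (m + 1) (k + 1) * q ^ (m + 1 - (k + 1)) ^ 2 =
        ((-1) ^ (k + 1) * bb q m (k + 1) * q ^ ((k + 1) + (m - k) ^ 2) -
          (-1) ^ k * bb q m k * q ^ (k + (m + 1 - k) ^ 2)) - (-1) ^ k * bb q m k * q ^ (m - k) ^ 2 := by
      intro k hk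
      rw [bb, show m + 1 - (k + 1) = m - k by omega]
      rw [Finset.mem_range] at hk
      obtain ⟨j, hj⟩ : ∃ j, m = k + j := ⟨m - k, by omega⟩
      subst hj
      rw [show k + j - k = j by omega, show k + j + 1 - k = j + 1 by omega, show 2 * (k + j) + 1 - k = k + 2 * j + 1 by omega,
        show k + (j + 1) ^ 2 = (k + 2 * j + 1) + j ^ 2 by ring, pow_add q (k + 1), pow_add q (k + 2 * j + 1), pow_succ]
      ring
    rw [Finset.sum_congr rfl step, Finset.sum_sub_distrib, ih]
    have tele := Finset.sum_range_sub (f := fun k => (-1 : ℤ) ^ k * bb q m k * q ^ (k + (m + 1 - k) ^ 2)) (m + 1)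
    simp only [show ∀ k, m + 1 - (k + 1) = m - k from fun k => by omega] at tele
    rw [tele, bb_of_lt q (show m < m + 1 by omega), bb_zero, pow_succ]
    simp only [zero_add, Nat.sub_zero, pow_zero]
    ring

theorem sum_mu_aa (q : ℤ) (m : ℕ) :
    ∑ k ∈ Finset.range (m + 1), mu q k * (bb q m k * q ^ ex m k) = (-1) ^ m * q ^ m ^ 2 := by
  rw [← sum_sq_bb q m, Finset.sum_mul]
  refine Finset.sum_congr rfl fun k hk => ?_
  rw [Finset.mem_range] at hk
  have := ex_add (show k ≤ m by omega)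
  calc mu q k * (bb q m k * q ^ ex m k) = (-1) ^ k * bb q m k * q ^ (ex m k + k.choose 2) := by
        rw [mu, pow_add]; ring
    _ = (-1) ^ k * bb q m k * q ^ (m - k) ^ 2 * q ^ m ^ 2 := by rw [this, pow_add]; ring

end Cfsg.Agent.SpUnipotentCount
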