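/-
Reduction at a vector of a symplectic space: totally isotropic subspaces through it and unipotent isometries fixing them.
Main results (namespace `Cfsg.Agent.SpUnipotentCount`): `step_nn`, `step_aa`.
-/
import Cfsg.Agent.Lib.SpUnipotentCount.Arith

set_option autoImplicit false
set_option linter.unusedSectionVars false

namespace Cfsg.Agent.SpUnipotentCount

open Module LinearMap

variable {F : Type*} [Field F] [Fintype F] {V : Type*} [AddCommGroup V] [Module F V] [FiniteDimensional F V]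

/-- A non-degenerate alternating form. -/
structure Symp (B : V →ₗ[F] V →ₗ[F] F) : Prop where
  alt : ∀ x, B x x = 0
  nondeg : ∀ x, (∀ y, B x y = 0) → x = 0

theorem Symp.neg {B : V →ₗ[F] V →ₗ[F] F} (hB : Symp B) (x y : V) : B y x = -B x y := by
  have h := hB.alt (x + y)
  simp only [map_add, LinearMap.add_apply, hB.alt, zero_add, add_zero] at h
  linear_combination h

/-- Totally isotropic. -/
def TI (B : V →ₗ[F] V →ₗ[F] F) (W : Submodule F V) : Prop := ∀ x ∈ W, ∀ y ∈ W, B x y = 0

/-- Unipotent isometries. -/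
def UIso (B : V →ₗ[F] V →ₗ[F] F) : Type _ :=
  {g : V ≃ₗ[F] V // (∀ x y, B (g x) (g y) = B x y) ∧ IsNilpotent ((g : Module.End F V) - 1)}

/-- Totally isotropic subspaces of a given dimension. -/
def TISub (B : V →ₗ[F] V →ₗ[F] F) (k : ℕ) : Type _ := {W : Submodule F V // finrank F W = k ∧ TI B W}

/-- A totally isotropic subspace and a unipotent isometry fixing it. -/
def Flag (B : V →ₗ[F] V →ₗ[F] F) (k : ℕ) : Type _ :=
  {p : TISub B k × UIso B // ∀ x ∈ p.1.1, p.2.1 x = x}

instance finite_uiso (B : V →ₗ[F] V →ₗ[F] F) : Finite (UIso B) := by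
  haveI : Finite V := Module.finite_of_finite F
  haveI : Finite (V ≃ₗ[F] V) := DFunLike.finite _
  exact Subtype.finite

instance finite_tisub (B : V →ₗ[F] V →ₗ[F] F) (k : ℕ) : Finite (TISub B k) := by
  haveI : Finite V := Module.finite_of_finite F
  exact Subtype.finite

instance finite_flag (B : V →ₗ[F] V →ₗ[F] F) (k : ℕ) : Finite (Flag B k) := Subtype.finite

variable {B : V →ₗ[F] V →ₗ[F] F} (hB : Symp B) {v f : V}

/-- The complement of a hyperbolic pair. -/
def perp (B : V →ₗ[F] V →ₗ[F] F) (v f : V) : Submodule F V := LinearMap.ker (B v) ⊓ LinearMap.ker (B f)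

theorem mem_perp {x : V} : x ∈ perp B v f ↔ B v x = 0 ∧ B f x = 0 := Iff.rfl

/-- The restricted form. -/
def rest (B : V →ₗ[F] V →ₗ[F] F) (v f : V) : perp B v f →ₗ[F] perp B v f →ₗ[F] F :=
  B.compl₁₂ (perp B v f).subtype (perp B v f).subtype

theorem rest_apply (x y : perp B v f) : rest B v f x y = B x.1 y.1 := rfl

@[simp] theorem v_perp (x : perp B v f) : B v x.1 = 0 := x.2.1

@[simp] theorem f_perp (x : perp B v f) : B f x.1 = 0 := x.2.2

variable (hvf : B v f = 1)

include hB hvf

theorem fv : B f v = -1 := by rw [hB.neg v f, hvf]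

theorem proj_mem (x : V) : x - B x f • v - B v x • f ∈ perp B v f := by
  rw [mem_perp]
  refine ⟨?_, ?_⟩
  · simp [map_sub, hB.alt, hvf]
  · simp [map_sub, hB.alt, fv hB hvf, hB.neg x f]

/-- The projection on the complement. -/
def proj : V →ₗ[F] perp B v f :=
  LinearMap.codRestrict (perp B v f) (LinearMap.id - (B.flip f).smulRight v - (B v).smulRight f) (proj_mem hB hvf)

theorem proj_val (x : V) : (proj hB hvf x : V) = x - B x f • v - B v x • f := rfl

theorem decomp (x : V) : x = B x f • v + B v x • f + (proj hB hvf x : V) := by rw [proj_val]; abel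

theorem proj_of_mem (x : perp B v f) : proj hB hvf x.1 = x := by
  apply Subtype.ext
  rw [proj_val, hB.neg f x.1, x.2.1, x.2.2]
  simp

theorem proj_v : proj hB hvf v = 0 := Subtype.ext (by simp [proj_val, hvf, hB.alt])

theorem proj_f : proj hB hvf f = 0 := Subtype.ext (by simp [proj_val, hvf, hB.alt])

theorem perp_f (x : perp B v f) : B x.1 f = 0 := by rw [hB.neg f x.1, x.2.2, neg_zero]

theorem perp_v (x : perp B v f) : B x.1 v = 0 := by rw [hB.neg v x.1, x.2.1, neg_zero]

theorem symp_rest : Symp (rest B v f) := by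
  refine ⟨fun x => hB.alt x.1, fun x hx => Subtype.ext (hB.nondeg x.1 fun y => ?_)⟩
  rw [decomp hB hvf y, map_add, map_add, map_smul, map_smul, perp_v hB hvf x, perp_f hB hvf x]
  have := hx (proj hB hvf y)
  rw [rest_apply] at this
  simp [this]

/-- The decomposition. -/
def split : V ≃ₗ[F] (F × F) × perp B v f where
  toFun x := ((B x f, B v x), proj hB hvf x)
  map_add' x y := by simp
  map_smul' c x := by simp
  invFun p := p.1.1 • v + p.1.2 • f + (p.2 : V)
  left_inv x := (decomp hB hvf x).symm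
  right_inv := by
    rintro ⟨⟨a, b⟩, x⟩
    refine Prod.ext (Prod.ext ?_ ?_) ?_
    · simp [hvf, hB.alt, perp_f hB hvf x]
    · simp [hvf, hB.alt, x.2.1]
    · simp [proj_v hB hvf, proj_f hB hvf, proj_of_mem hB hvf]

theorem finrank_perp : finrank F V = finrank F (perp B v f) + 2 := by
  rw [(split hB hvf).finrank_eq, Module.finrank_prod, Module.finrank_prod, Module.finrank_self]; omega

/-- The subspace in the complement. -/
def down (B : V →ₗ[F] V →ₗ[F] F) (v f : V) (W : Submodule F V) : Submodule F (perp B v f) := W.comap (perp B v f).subtype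

/-- The subspace through `v`. -/
def upW (B : V →ₗ[F] V →ₗ[F] F) (v f : V) (W' : Submodule F (perp B v f)) : Submodule F V := Submodule.span F {v} ⊔ W'.map (perp B v f).subtype

theorem mem_upW {W' : Submodule F (perp B v f)} {x : V} :
    x ∈ upW B v f W' ↔ B v x = 0 ∧ proj hB hvf x ∈ W' := by
  rw [upW, Submodule.mem_sup]
  constructor
  · rintro ⟨y, hy, z, ⟨w, hw, rfl⟩, rfl⟩
    obtain ⟨c, rfl⟩ := Submodule.mem_span_singleton.1 hy
    refine ⟨by simp [hB.alt, w.2.1], ?_⟩
    rw [map_add, map_smul, proj_v hB hvf, smul_zero, zero_add, Submodule.coe_subtype, proj_of_mem hB hvf]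
    exact hw
  · rintro ⟨h1, h2⟩
    refine ⟨B x f • v, Submodule.mem_span_singleton.2 ⟨_, rfl⟩, proj hB hvf x, ⟨_, h2, rfl⟩, ?_⟩
    conv_rhs => rw [decomp hB hvf x, h1, zero_smul, add_zero]

theorem finrank_upW (W' : Submodule F (perp B v f)) : finrank F (upW B v f W') = finrank F W' + 1 := by
  let e : upW B v f W' ≃ₗ[F] F × W' :=
    { toFun := fun x => (B x.1 f, ⟨proj hB hvf x.1, ((mem_upW hB hvf).1 x.2).2⟩)
      map_add' := fun x y => by ext <;> simp
      map_smul' := fun c x => by ext <;> simp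
      invFun := fun p => ⟨p.1 • v + (p.2.1 : V), (mem_upW hB hvf).2 ⟨by simp [hB.alt, p.2.1.2.1], by
        rw [map_add, map_smul, proj_v hB hvf, smul_zero, zero_add, proj_of_mem hB hvf]; exact p.2.2⟩⟩
      left_inv := fun x => Subtype.ext (by
        show B x.1 f • v + (proj hB hvf x.1 : V) = x.1
        conv_rhs => rw [decomp hB hvf x.1, ((mem_upW hB hvf).1 x.2).1, zero_smul, add_zero])
      right_inv := fun p => by
        refine Prod.ext ?_ (Subtype.ext ?_)
        · simp [hvf, perp_f hB hvf p.2.1]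
        · simp [proj_v hB hvf, proj_of_mem hB hvf] }
  rw [e.finrank_eq, Module.finrank_prod, Module.finrank_self, add_comm]

theorem down_upW (W' : Submodule F (perp B v f)) : down B v f (upW B v f W') = W' := by
  ext x
  rw [down, Submodule.mem_comap, mem_upW hB hvf, Submodule.coe_subtype, proj_of_mem hB hvf]
  exact ⟨fun h => h.2, fun h => ⟨x.2.1, h⟩⟩

theorem upW_down {W : Submodule F V} (hW : TI B W) (hv : v ∈ W) : upW B v f (down B v f W) = W := by
  ext x
  rw [mem_upW hB hvf, down, Submodule.mem_comap, Submodule.coe_subtype]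
  constructor
  · rintro ⟨h1, h2⟩
    rw [decomp hB hvf x, h1, zero_smul, add_zero]
    exact W.add_mem (W.smul_mem _ hv) h2
  · intro hx
    refine ⟨hW v hv x hx, ?_⟩
    rw [proj_val, hW v hv x hx, zero_smul, sub_zero]
    exact W.sub_mem hx (W.smul_mem _ hv)

theorem ti_upW (W' : Submodule F (perp B v f)) : TI B (upW B v f W') ↔ TI (rest B v f) W' := by
  constructor
  · intro h x hx y hy
    exact h x.1 ((mem_upW hB hvf).2 ⟨x.2.1, by rwa [proj_of_mem hB hvf]⟩) y.1
      ((mem_upW hB hvf).2 ⟨y.2.1, by rwa [proj_of_mem hB hvf]⟩)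
  · intro h x hx y hy
    obtain ⟨hx1, hx2⟩ := (mem_upW hB hvf).1 hx
    obtain ⟨hy1, hy2⟩ := (mem_upW hB hvf).1 hy
    have := h _ hx2 _ hy2
    rw [rest_apply] at this
    rw [decomp hB hvf x, decomp hB hvf y, hx1, hy1]
    simp [hB.alt, this, perp_v hB hvf, (proj hB hvf y).2.1]

/-- Totally isotropic subspaces through `v`. -/
def throughEquiv (k : ℕ) : {W : TISub B (k + 1) // v ∈ W.1} ≃ TISub (rest B v f) k where
  toFun W := ⟨down B v f W.1.1, by
    have h := finrank_upW hB hvf (down B v f W.1.1)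
    rw [upW_down hB hvf W.1.2.2 W.2, W.1.2.1] at h
    omega, (ti_upW hB hvf _).1 (by rw [upW_down hB hvf W.1.2.2 W.2]; exact W.1.2.2)⟩
  invFun W' := ⟨⟨upW B v f W'.1, by rw [finrank_upW hB hvf, W'.2.1], (ti_upW hB hvf _).2 W'.2.2⟩,
    (mem_upW hB hvf).2 ⟨hB.alt v, by rw [proj_v hB hvf]; exact W'.1.zero_mem⟩⟩
  left_inv W := Subtype.ext (Subtype.ext (upW_down hB hvf W.1.2.2 W.2))
  right_inv W' := Subtype.ext (down_upW hB hvf W'.1)

/-- The isometry with data `(c, a, h)`, as a linear map. -/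
def build (c : F) (a : perp B v f) (h : perp B v f →ₗ[F] perp B v f) : V →ₗ[F] V :=
  (B.flip f + c • B v - (rest B v f).flip a ∘ₗ h ∘ₗ proj hB hvf).smulRight v + (B v).smulRight (f + (a : V)) +
    (perp B v f).subtype ∘ₗ h ∘ₗ proj hB hvf

theorem build_apply (c : F) (a : perp B v f) (h : perp B v f →ₗ[F] perp B v f) (x : V) :
    build hB hvf c a h x = (B x f + c * B v x - B (h (proj hB hvf x)).1 a.1) • v + B v x • (f + (a : V)) +
      (h (proj hB hvf x) : V) := rfl

theorem build_v (c : F) (a : perp B v f) (h : perp B v f →ₗ[F] perp B v f) : build hB hvf c a h v = v := by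
  simp [build_apply, proj_v hB hvf, hvf, hB.alt]

theorem build_f (c : F) (a : perp B v f) (h : perp B v f →ₗ[F] perp B v f) :
    build hB hvf c a h f = c • v + f + (a : V) := by
  simp [build_apply, proj_f hB hvf, hvf, hB.alt]; abel

theorem build_perp (c : F) (a : perp B v f) (h : perp B v f →ₗ[F] perp B v f) (x : perp B v f) :
    build hB hvf c a h x.1 = -(B (h x).1 a.1) • v + (h x : V) := by
  simp [build_apply, proj_of_mem hB hvf, perp_f hB hvf, x.2.1]

theorem build_iso (c : F) (a : perp B v f) (h : perp B v f →ₗ[F] perp B v f)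
    (hh : ∀ x y, rest B v f (h x) (h y) = rest B v f x y) (x y : V) :
    B (build hB hvf c a h x) (build hB hvf c a h y) = B x y := by
  have e := hh (proj hB hvf x) (proj hB hvf y)
  simp only [rest_apply] at e
  conv_rhs => rw [decomp hB hvf x, decomp hB hvf y]
  simp only [build_apply, map_add, LinearMap.add_apply, map_smul, LinearMap.smul_apply, smul_eq_mul, hB.alt, hvf,
    fv hB hvf, perp_f hB hvf, perp_v hB hvf, v_perp, f_perp,
    e,
    hB.neg (a : V) (h (proj hB hvf y)).1]
  have ha := hB.neg (h (proj hB hvf y)).1 (a : V)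
  rw [ha]
  ring

theorem build_injective (c : F) (a : perp B v f) {h : perp B v f →ₗ[F] perp B v f} (hh : Function.Injective h) :
    Function.Injective (build hB hvf c a h) := by
  rw [injective_iff_map_eq_zero]
  intro x hx
  have h1 : B v x = 0 := by
    have := congrArg (B v) hx
    simpa [build_apply, hB.alt, hvf, a.2.1, (h (proj hB hvf x)).2.1] using this
  rw [build_apply, h1, zero_smul, add_zero, mul_zero, add_zero] at hx
  have h2 : h (proj hB hvf x) = 0 := by
    have := congrArg (proj hB hvf) hx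
    simpa [proj_v hB hvf, proj_of_mem hB hvf] using this
  have h3 : proj hB hvf x = 0 := hh (by rw [h2, map_zero])
  rw [h2] at hx
  have h4 : B x f = 0 := by
    have := congrArg (fun z => B z f) hx
    simpa [hvf] using this
  rw [decomp hB hvf x, h1, h3, h4]
  simp

theorem proj_build (c : F) (a : perp B v f) (h : perp B v f →ₗ[F] perp B v f) (x : V) (hx : B v x = 0) :
    proj hB hvf (build hB hvf c a h x) = h (proj hB hvf x) ∧ B v (build hB hvf c a h x) = 0 := by
  rw [build_apply, hx]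
  refine ⟨?_, ?_⟩
  · simp [proj_v hB hvf, proj_of_mem hB hvf]
  · simp [hB.alt, (h (proj hB hvf x)).2.1]

theorem nilpotent_iff (c : F) (a : perp B v f) (h : perp B v f →ₗ[F] perp B v f) :
    IsNilpotent (build hB hvf c a h - 1 : Module.End F V) ↔ IsNilpotent (h - 1 : Module.End F (perp B v f)) := by
  set N := (build hB hvf c a h - 1 : Module.End F V)
  set N' := (h - 1 : Module.End F (perp B v f))
  have hN : ∀ (j : ℕ) (x : V), B v x = 0 → proj hB hvf ((N ^ j) x) = (N' ^ j) (proj hB hvf x) ∧ B v ((N ^ j) x) = 0 := by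
    intro j
    induction j with
    | zero => intro x hx; exact ⟨rfl, hx⟩
    | succ j ih =>
      intro x hx
      obtain ⟨h1, h2⟩ := ih x hx
      obtain ⟨e1, e2⟩ := proj_build hB hvf c a h _ h2
      rw [pow_succ', pow_succ', Module.End.mul_apply, Module.End.mul_apply, ← h1]
      refine ⟨?_, ?_⟩
      · simp only [N, N', LinearMap.sub_apply, Module.End.one_apply, map_sub, e1]
      · simp only [N, LinearMap.sub_apply, Module.End.one_apply, map_sub, e2, h2, sub_zero]
  have hNv : N v = 0 := by simp [N, build_v hB hvf]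
  constructor
  · rintro ⟨j, hj⟩
    refine ⟨j, LinearMap.ext fun x => ?_⟩
    rw [← proj_of_mem hB hvf x, ← (hN j x.1 x.2.1).1, hj]
    simp
  · rintro ⟨j, hj⟩
    refine ⟨j + 1 + 1, LinearMap.ext fun x => ?_⟩
    rw [pow_succ, Module.End.mul_apply, pow_succ']
    have hx : B v (N x) = 0 := by
      simp [N, build_apply, hB.alt, hvf, a.2.1, (h (proj hB hvf x)).2.1]
    obtain ⟨h1, h2⟩ := hN j (N x) hx
    rw [hj, LinearMap.zero_apply] at h1
    rw [Module.End.mul_apply, decomp hB hvf ((N ^ j) (N x)), h1, h2]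
    simp [hNv]

theorem iso_apply_v {g : V ≃ₗ[F] V} (hg : ∀ x y, B (g x) (g y) = B x y) (hgv : g v = v) (x : V) : B v (g x) = B v x := by
  conv_lhs => rw [← hgv]
  exact hg v x

theorem iso_eq_build {g : V ≃ₗ[F] V} (hg : ∀ x y, B (g x) (g y) = B x y) (hgv : g v = v) :
    (g : V →ₗ[F] V) = build hB hvf (B (g f) f) (proj hB hvf (g f))
      (proj hB hvf ∘ₗ (g : V →ₗ[F] V) ∘ₗ (perp B v f).subtype) := by
  refine LinearMap.ext fun x => ?_
  have hgf : g f = B (g f) f • v + f + (proj hB hvf (g f) : V) := by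
    have := decomp hB hvf (g f)
    rwa [iso_apply_v hB hvf hg hgv f, hvf, one_smul] at this
  have hgy : ∀ y : perp B v f, g y.1 = -(B (proj hB hvf (g y.1)).1 (proj hB hvf (g f)).1) • v + (proj hB hvf (g y.1) : V) := by
    intro y
    have h1 := decomp hB hvf (g y.1)
    rw [iso_apply_v hB hvf hg hgv y.1, y.2.1, zero_smul, add_zero] at h1
    have h2 : B (g y.1) (g f) = 0 := by rw [hg]; exact perp_f hB hvf y
    rw [hgf, h1] at h2
    simp only [map_add, LinearMap.add_apply, map_smul, LinearMap.smul_apply, smul_eq_mul, hB.alt, hvf,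
      perp_f hB hvf, perp_v hB hvf, v_perp] at h2
    nth_rewrite 1 [h1]
    congr 2
    linear_combination h2
  conv_lhs => rw [decomp hB hvf x]
  simp only [map_add, map_smul, LinearEquiv.coe_coe, hgv, build_apply, LinearMap.comp_apply, Submodule.coe_subtype]
  nth_rewrite 1 [hgf]
  nth_rewrite 1 [hgy]
  module

/-- Unipotent isometries fixing `v`. -/
noncomputable def fixEquiv : {g : UIso B // g.1 v = v} ≃ (F × perp B v f) × UIso (rest B v f) where
  toFun g := ((B (g.1.1 f) f, proj hB hvf (g.1.1 f)),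
    ⟨LinearEquiv.ofInjectiveEndo (proj hB hvf ∘ₗ (g.1.1 : V →ₗ[F] V) ∘ₗ (perp B v f).subtype) (by
      rw [injective_iff_map_eq_zero]
      intro y hy
      apply (symp_rest hB hvf).nondeg y
      intro z
      rw [rest_apply, ← g.1.2.1 y.1 z.1, decomp hB hvf (g.1.1 y.1), decomp hB hvf (g.1.1 z.1),
        iso_apply_v hB hvf g.1.2.1 g.2 y.1, iso_apply_v hB hvf g.1.2.1 g.2 z.1, y.2.1, z.2.1]
      simp only [LinearMap.comp_apply, LinearEquiv.coe_coe, Submodule.coe_subtype] at hy
      simp [hy, hB.alt, (proj hB hvf (g.1.1 z.1)).2.1]),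
     fun y z => by
      rw [rest_apply, rest_apply, ← g.1.2.1 y.1 z.1]
      conv_rhs => rw [decomp hB hvf (g.1.1 y.1), decomp hB hvf (g.1.1 z.1)]
      rw [iso_apply_v hB hvf g.1.2.1 g.2 y.1, iso_apply_v hB hvf g.1.2.1 g.2 z.1, y.2.1, z.2.1]
      simp [hB.alt, perp_v hB hvf, (proj hB hvf (g.1.1 z.1)).2.1],
     by
      have := g.1.2.2
      rw [iso_eq_build hB hvf g.1.2.1 g.2, nilpotent_iff hB hvf] at this
      exact this⟩)
  invFun p := ⟨⟨LinearEquiv.ofInjectiveEndo (build hB hvf p.1.1 p.1.2 p.2.1) (build_injective hB hvf _ _ p.2.1.injective),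
    build_iso hB hvf _ _ _ p.2.2.1, (nilpotent_iff hB hvf p.1.1 p.1.2 (p.2.1 : perp B v f →ₗ[F] perp B v f)).2 p.2.2.2⟩,
    build_v hB hvf _ _ _⟩
  left_inv g := Subtype.ext (Subtype.ext (LinearEquiv.ext fun x =>
    (DFunLike.congr_fun (iso_eq_build hB hvf g.1.2.1 g.2) x).symm))
  right_inv := by
    rintro ⟨⟨c, a⟩, h⟩
    refine Prod.ext (Prod.ext ?_ ?_) (Subtype.ext (LinearEquiv.ext fun y => ?_))
    · show B (build hB hvf c a h.1 f) f = c
      simp [build_f hB hvf, hvf, hB.alt, perp_f hB hvf]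
    · show proj hB hvf (build hB hvf c a h.1 f) = a
      simp [build_f hB hvf, proj_v hB hvf, proj_f hB hvf, proj_of_mem hB hvf]
    · show proj hB hvf (build hB hvf c a h.1 y.1) = h.1 y
      simp [build_perp hB hvf, proj_v hB hvf, proj_of_mem hB hvf]

theorem fix_iff (g : {g : UIso B // g.1 v = v}) (W' : Submodule F (perp B v f)) :
    (∀ x ∈ upW B v f W', g.1.1 x = x) ↔
      (∀ y ∈ W', (fixEquiv hB hvf g).2.1 y = y) ∧ ∀ y ∈ W', B y.1 (fixEquiv hB hvf g).1.2.1 = 0 := by
  obtain ⟨⟨⟨c, a⟩, h⟩, rfl⟩ := (fixEquiv hB hvf).symm.surjective g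
  rw [Equiv.apply_symm_apply]
  constructor
  · intro hfix
    have key : ∀ y ∈ W', -(B (h.1 y).1 a.1) • v + (h.1 y : V) = y.1 := fun y hy => by
      have := hfix y.1 ((mem_upW hB hvf).2 ⟨y.2.1, by rwa [proj_of_mem hB hvf]⟩)
      exact (build_perp hB hvf c a h.1 y).symm.trans this
    have h1 : ∀ y ∈ W', h.1 y = y := fun y hy => by
      have := congrArg (proj hB hvf) (key y hy)
      simpa [proj_v hB hvf, proj_of_mem hB hvf] using this
    refine ⟨h1, fun y hy => ?_⟩
    have := congrArg (fun z => B z f) (key y hy)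
    simpa [hvf, perp_f hB hvf, h1 y hy] using this
  · rintro ⟨h1, h2⟩ x hx
    obtain ⟨e1, e2⟩ := (mem_upW hB hvf).1 hx
    show build hB hvf c a h.1 x = x
    conv_rhs => rw [decomp hB hvf x, e1]
    rw [build_apply, e1]
    simp only [LinearEquiv.coe_coe, h1 _ e2, h2 _ e2]
    simp

theorem card_orth (W' : Submodule F (perp B v f)) :
    Nat.card {a : perp B v f // ∀ y ∈ W', B y.1 a.1 = 0} = Fintype.card F ^ (finrank F (perp B v f) - finrank F W') := by
  let L : perp B v f →ₗ[F] Module.Dual F W' := W'.subtype.dualMap ∘ₗ (rest B v f).flip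
  have hker : ∀ a, a ∈ LinearMap.ker L ↔ ∀ y ∈ W', B y.1 a.1 = 0 := fun a => by
    rw [LinearMap.mem_ker]
    exact ⟨fun h y hy => DFunLike.congr_fun h ⟨y, hy⟩, fun h => LinearMap.ext fun y => h y.1 y.2⟩
  have hinj : Function.Injective (rest B v f).flip := by
    rw [injective_iff_map_eq_zero]
    intro a ha
    apply (symp_rest hB hvf).nondeg a
    intro y
    rw [(symp_rest hB hvf).neg y a, show rest B v f y a = 0 from DFunLike.congr_fun ha y, neg_zero]
  have hsurj : Function.Surjective L :=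
    (LinearMap.dualMap_surjective_of_injective W'.injective_subtype).comp
      ((LinearMap.injective_iff_surjective_of_finrank_eq_finrank (by rw [Subspace.dual_finrank_eq])).1 hinj)
  have hrn := LinearMap.finrank_range_add_finrank_ker L
  rw [LinearMap.range_eq_top.2 hsurj, finrank_top, Subspace.dual_finrank_eq] at hrn
  haveI : Finite V := Module.finite_of_finite F
  rw [← Nat.card_congr (Equiv.subtypeEquivRight hker), Module.natCard_eq_pow_finrank (K := F) (V := LinearMap.ker L),
    Nat.card_eq_fintype_card]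
  congr 1
  omega

theorem finrank_tisub_le {k : ℕ} (W : TISub (rest B v f) k) : k ≤ finrank F (perp B v f) := W.2.1 ▸ Submodule.finrank_le _

/-- Flags through `v`. -/
noncomputable def flagEquiv (k : ℕ) :
    {p : Flag B (k + 1) // v ∈ p.1.1.1} ≃
      {t : Flag (rest B v f) k × F × perp B v f // ∀ y ∈ t.1.1.1.1, B y.1 t.2.2.1 = 0} where
  toFun p :=
    let W : {W : TISub B (k + 1) // v ∈ W.1} := ⟨p.1.1.1, p.2⟩
    let g : {g : UIso B // g.1 v = v} := ⟨p.1.1.2, p.1.2 v p.2⟩
    have hp : ∀ x ∈ upW B v f (throughEquiv hB hvf k W).1, g.1.1 x = x := fun x hx =>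
      p.1.2 x (by
        have e : upW B v f (down B v f W.1.1) = W.1.1 := upW_down hB hvf W.1.2.2 W.2
        exact e ▸ hx)
    ⟨(⟨(throughEquiv hB hvf k W, (fixEquiv hB hvf g).2), ((fix_iff hB hvf g _).1 hp).1⟩,
      (fixEquiv hB hvf g).1.1, (fixEquiv hB hvf g).1.2), ((fix_iff hB hvf g _).1 hp).2⟩
  invFun t :=
    ⟨⟨(((throughEquiv hB hvf k).symm t.1.1.1.1).1, ((fixEquiv hB hvf).symm ((t.1.2.1, t.1.2.2), t.1.1.1.2)).1),
      (fix_iff hB hvf _ t.1.1.1.1.1).2 (by rw [Equiv.apply_symm_apply]; exact ⟨t.1.1.2, t.2⟩)⟩,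
      ((throughEquiv hB hvf k).symm t.1.1.1.1).2⟩
  left_inv p := by
    refine Subtype.ext (Subtype.ext (Prod.ext ?_ ?_))
    · exact congrArg Subtype.val ((throughEquiv hB hvf k).symm_apply_apply ⟨p.1.1.1, p.2⟩)
    · exact congrArg Subtype.val ((fixEquiv hB hvf).symm_apply_apply ⟨p.1.1.2, p.1.2 v p.2⟩)
  right_inv := by
    rintro ⟨⟨⟨⟨W', h⟩, hfix⟩, c, a⟩, ha⟩
    have e1 := (throughEquiv hB hvf k).apply_symm_apply W'
    have e2 := (fixEquiv hB hvf).apply_symm_apply ((c, a), h)
    have e3 := congrArg Prod.snd e2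
    have e4 := congrArg Prod.fst e2
    exact Subtype.ext (Prod.ext (Subtype.ext (Prod.ext e1 e3)) e4)

theorem step_nn (k : ℕ) : Nat.card {W : TISub B (k + 1) // v ∈ W.1} = Nat.card (TISub (rest B v f) k) :=
  Nat.card_congr (throughEquiv hB hvf k)

theorem step_aa (k : ℕ) : Nat.card {p : Flag B (k + 1) // v ∈ p.1.1.1} =
    Fintype.card F ^ (1 + (finrank F (perp B v f) - k)) * Nat.card (Flag (rest B v f) k) := by
  haveI : Finite V := Module.finite_of_finite F
  letI := Fintype.ofFinite (Flag (rest B v f) k)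
  let e : {t : Flag (rest B v f) k × F × perp B v f // ∀ y ∈ t.1.1.1.1, B y.1 t.2.2.1 = 0} ≃
      Σ p : Flag (rest B v f) k, F × {a : perp B v f // ∀ y ∈ p.1.1.1, B y.1 a.1 = 0} :=
    { toFun := fun t => ⟨t.1.1, t.1.2.1, ⟨t.1.2.2, t.2⟩⟩
      invFun := fun s => ⟨(s.1, s.2.1, s.2.2.1), s.2.2.2⟩
      left_inv := fun t => rfl
      right_inv := fun s => rfl }
  rw [Nat.card_congr ((flagEquiv hB hvf k).trans e), Nat.card_sigma, Finset.sum_congr rfl fun p _ => by
    rw [Nat.card_prod, card_orth hB hvf, p.1.1.2.1, Nat.card_eq_fintype_card, ← pow_succ', Nat.add_comm _ 1],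
    Finset.sum_const, Finset.card_univ, smul_eq_mul, ← Nat.card_eq_fintype_card (α := Flag (rest B v f) k), mul_comm]

end Cfsg.Agent.SpUnipotentCount
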