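/-
The alternating sum over totally isotropic subspaces of the fixed space of a non-trivial unipotent isometry.
Main results (namespace `Cfsg.Agent.SpUnipotentCount`): `sum_fixed_eq_zero`.
-/
import Cfsg.Agent.Lib.SpUnipotentCount.Step

set_option autoImplicit false
set_option linter.unusedSectionVars false

namespace Cfsg.Agent.SpUnipotentCount

open Module LinearMap

variable {F : Type*} [Field F] [Fintype F] {V : Type*} [AddCommGroup V] [Module F V] [FiniteDimensional F V]
variable {B : V →ₗ[F] V →ₗ[F] F}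

/-- The fixed space. -/
def fixSub (g : UIso B) : Submodule F V := LinearMap.eqLocus (g.1 : V →ₗ[F] V) LinearMap.id

theorem mem_fixSub {g : UIso B} {x : V} : x ∈ fixSub g ↔ g.1 x = x := Iff.rfl

/-- A non-trivial unipotent isometry has a fixed vector orthogonal to all fixed vectors. -/
theorem exists_radical (g : UIso B) (hg : g.1 ≠ LinearEquiv.refl F V) :
    ∃ r, r ≠ 0 ∧ r ∈ fixSub g ∧ ∀ y ∈ fixSub g, B r y = 0 := by
  classical
  set N : Module.End F V := (g.1 : Module.End F V) - 1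
  have hN : IsNilpotent N := g.2.2
  have hN0 : N ≠ 0 := fun h => hg (LinearEquiv.ext fun x => sub_eq_zero.1 (DFunLike.congr_fun h x))
  obtain ⟨n, hn⟩ := hN
  have hex : ∃ j, N ^ (j + 1) = 0 := ⟨n, by rw [pow_succ, hn, zero_mul]⟩
  set j := Nat.find hex
  have hj := Nat.find_spec hex
  have hj0 : j ≠ 0 := fun e => hN0 (by
    have : N ^ (j + 1) = 0 := hj
    simpa [e] using this)
  have hjn : N ^ j ≠ 0 := by
    obtain ⟨i, hi⟩ := Nat.exists_eq_succ_of_ne_zero hj0
    rw [hi]
    exact Nat.find_min hex (show i < j by omega)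
  obtain ⟨x, hx⟩ : ∃ x, (N ^ j) x ≠ 0 := by
    by_contra h
    push_neg at h
    exact hjn (LinearMap.ext h)
  refine ⟨(N ^ j) x, hx, ?_, fun y hy => ?_⟩
  · have : (N ^ (j + 1)) x = 0 := by rw [show N ^ (j + 1) = 0 from hj]; rfl
    rw [pow_succ', Module.End.mul_apply] at this
    exact sub_eq_zero.1 this
  · obtain ⟨i, hi⟩ := Nat.exists_eq_succ_of_ne_zero hj0
    rw [hi, pow_succ', Module.End.mul_apply]
    show B (g.1 ((N ^ i) x) - (N ^ i) x) y = 0
    rw [map_sub, LinearMap.sub_apply]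
    conv_lhs => arg 1; rw [← mem_fixSub.1 hy]
    rw [g.2.1, sub_self]

variable (hB : Symp B)

include hB

/-- The hyperplanes missing `r` of the subspaces through `r`. -/
theorem card_missing (Fx : Submodule F V) {r : V} (hr0 : r ≠ 0) (hr : r ∈ Fx) (horth : ∀ y ∈ Fx, B r y = 0) (k : ℕ) :
    Nat.card {W : TISub B k // W.1 ≤ Fx ∧ r ∉ W.1} =
      Fintype.card F ^ k * Nat.card {W : TISub B (k + 1) // W.1 ≤ Fx ∧ r ∈ W.1} := by
  classical
  haveI : Finite V := Module.finite_of_finite F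
  set A := {W : TISub B (k + 1) // W.1 ≤ Fx ∧ r ∈ W.1}
  let D : A → Type _ := fun W => {φ : Module.Dual F W.1.1 // φ ⟨r, W.2.2⟩ = 1}
  have hkerdim : ∀ (W : A) (φ : D W), finrank F ((LinearMap.ker φ.1).map W.1.1.subtype) = k := by
    intro W φ
    rw [Submodule.finrank_map_subtype_eq]
    have h := LinearMap.finrank_range_add_finrank_ker φ.1
    rw [W.1.2.1, LinearMap.range_eq_top.2 (fun c => ⟨c • ⟨r, W.2.2⟩, by rw [map_smul, φ.2, smul_eq_mul, mul_one]⟩),
      finrank_top, Module.finrank_self] at h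
    omega
  let toW : (Σ W : A, D W) → {W : TISub B k // W.1 ≤ Fx ∧ r ∉ W.1} := fun s =>
    ⟨⟨(LinearMap.ker s.2.1).map s.1.1.1.subtype, hkerdim s.1 s.2,
      fun x hx y hy => s.1.1.2.2 x (Submodule.map_subtype_le _ _ hx) y (Submodule.map_subtype_le _ _ hy)⟩,
      (Submodule.map_subtype_le _ _).trans s.1.2.1, by
        rintro ⟨z, hz, hzr⟩
        rw [show z = ⟨r, s.1.2.2⟩ from Subtype.ext hzr] at hz
        have h1 : s.2.1 ⟨r, s.1.2.2⟩ = 0 := hz
        rw [s.2.2] at h1
        exact one_ne_zero h1⟩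
  have decompW : ∀ (W : A) (φ : D W) (z : W.1.1), ∃ u ∈ LinearMap.ker φ.1, z = φ.1 z • (⟨r, W.2.2⟩ : W.1.1) + u := by
    intro W φ z
    refine ⟨z - φ.1 z • ⟨r, W.2.2⟩, ?_, by abel⟩
    rw [LinearMap.mem_ker, map_sub, map_smul, φ.2, smul_eq_mul, mul_one, sub_self]
  have hW : ∀ s : Σ W : A, D W, s.1.1.1 = (toW s).1.1 ⊔ Submodule.span F {r} := by
    rintro ⟨W, φ⟩
    refine le_antisymm (fun z hz => ?_) (sup_le (Submodule.map_subtype_le _ _) ((Submodule.span_singleton_le_iff_mem r W.1.1).2 W.2.2))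
    obtain ⟨u, hu, he⟩ := decompW W φ ⟨z, hz⟩
    have := congrArg Subtype.val he
    simp only [Submodule.coe_add, Submodule.coe_smul] at this
    rw [this, add_comm]
    exact Submodule.add_mem_sup ⟨u, hu, rfl⟩ (Submodule.mem_span_singleton.2 ⟨_, rfl⟩)
  have hinj : Function.Injective toW := by
    intro s t h
    have h' : (toW s).1.1 = (toW t).1.1 := by rw [h]
    have e : s.1 = t.1 := Subtype.ext (Subtype.ext (by rw [hW s, hW t, h']))
    obtain ⟨W, φ⟩ := s
    obtain ⟨W', ψ⟩ := t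
    obtain rfl : W = W' := e
    refine congrArg (Sigma.mk W) (Subtype.ext (LinearMap.ext fun z => ?_))
    obtain ⟨u, hu, he⟩ := decompW W φ z
    have hu' : ψ.1 u = 0 := by
      have : (u : V) ∈ (LinearMap.ker ψ.1).map W.1.1.subtype := by
        have hm : (u : V) ∈ (toW ⟨W, φ⟩).1.1 := ⟨u, hu, rfl⟩
        rw [h'] at hm
        exact hm
      obtain ⟨w, hw, hwu⟩ := this
      rw [← Subtype.ext (a1 := w) (a2 := u) hwu]
      exact hw
    conv_rhs => rw [he, map_add, map_smul, ψ.2, hu', smul_eq_mul, mul_one, add_zero]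
  have hsurj : Function.Surjective toW := by
    rintro ⟨W, hWF, hrW⟩
    let L : W.1 × F →ₗ[F] V := W.1.subtype.coprod (LinearMap.toSpanSingleton F V r)
    have hL : ∀ w c, L (w, c) = (w : V) + c • r := fun w c => rfl
    have hLinj : Function.Injective L := by
      rw [injective_iff_map_eq_zero]
      rintro ⟨w, c⟩ h
      rw [hL] at h
      have hc : c = 0 := by
        by_contra hc
        apply hrW
        have : r = c⁻¹ • (-(w : V)) := by
          rw [show -(w : V) = c • r from neg_eq_of_add_eq_zero_right h, smul_smul, inv_mul_cancel₀ hc, one_smul]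
        rw [this]
        exact W.1.smul_mem _ (W.1.neg_mem w.2)
      subst hc
      simp at h
      simp [h]
    let e := LinearEquiv.ofInjective L hLinj
    have hrk : finrank F (LinearMap.range L) = k + 1 := by
      rw [← e.finrank_eq, Module.finrank_prod, W.2.1, Module.finrank_self]
    have hti : TI B (LinearMap.range L) := by
      rintro _ ⟨⟨w, c⟩, rfl⟩ _ ⟨⟨w', c'⟩, rfl⟩
      rw [hL, hL]
      simp [hB.alt, W.2.2 _ w.2 _ w'.2, horth _ (hWF w'.2), hB.neg r (w : V), horth _ (hWF w.2)]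
    have hrmem : r ∈ LinearMap.range L := ⟨(0, 1), by simp [hL]⟩
    have hsub : LinearMap.range L ≤ Fx := by
      rintro _ ⟨⟨w, c⟩, rfl⟩
      rw [hL]
      exact Fx.add_mem (hWF w.2) (Fx.smul_mem _ hr)
    let φ : Module.Dual F (LinearMap.range L) := LinearMap.snd F W.1 F ∘ₗ e.symm.toLinearMap
    have hφr : φ ⟨r, hrmem⟩ = 1 := by
      have : e.symm ⟨r, hrmem⟩ = (0, 1) := by
        rw [LinearEquiv.symm_apply_eq]
        exact Subtype.ext (by simp [e, hL])
      simp [φ, this]
    refine ⟨⟨⟨⟨LinearMap.range L, hrk, hti⟩, hsub, hrmem⟩, ⟨φ, hφr⟩⟩, Subtype.ext (Subtype.ext ?_)⟩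
    refine SetLike.ext fun z => ?_
    constructor
    · rintro ⟨y, hy, rfl⟩
      obtain ⟨⟨w, c⟩, rfl⟩ := e.surjective y
      have : c = 0 := by simpa [φ] using hy
      subst this
      simp [e, hL]
    · intro hz
      exact ⟨e (⟨z, hz⟩, 0), by simp [φ], by simp [e, hL]⟩
  haveI : ∀ W : A, Finite (D W) := fun W => by
    haveI : Finite (Module.Dual F W.1.1) := Module.finite_of_finite F
    exact Subtype.finite
  haveI := Fintype.ofFinite A
  rw [← Nat.card_congr (Equiv.ofBijective toW ⟨hinj, hsurj⟩), Nat.card_sigma]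
  have hD : ∀ W : A, Nat.card (D W) = Fintype.card F ^ k := by
    intro W
    have hr' : (⟨r, W.2.2⟩ : W.1.1) ≠ 0 := fun h => hr0 (congrArg Subtype.val h)
    let ev : Module.Dual F W.1.1 →ₗ[F] F := Module.Dual.eval F W.1.1 ⟨r, W.2.2⟩
    obtain ⟨φ0, hφ0⟩ : ∃ φ0, ev φ0 = 1 := by
      obtain ⟨φ, hφ⟩ : ∃ φ : Module.Dual F W.1.1, φ ⟨r, W.2.2⟩ ≠ 0 := by
        by_contra h
        push_neg at h
        exact hr' ((Module.forall_dual_apply_eq_zero_iff F _).1 h)
      exact ⟨(φ ⟨r, W.2.2⟩)⁻¹ • φ, by simp [ev, Module.Dual.eval, hφ]⟩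
    have he : D W ≃ LinearMap.ker ev :=
      { toFun := fun φ => ⟨φ.1 - φ0, by rw [LinearMap.mem_ker, map_sub, hφ0, show ev φ.1 = 1 from φ.2, sub_self]⟩
        invFun := fun ψ => ⟨ψ.1 + φ0, by
          show ev (ψ.1 + φ0) = 1
          rw [map_add, hφ0, LinearMap.mem_ker.1 ψ.2, zero_add]⟩
        left_inv := fun φ => Subtype.ext (sub_add_cancel _ _)
        right_inv := fun ψ => Subtype.ext (add_sub_cancel_right _ _) }
    have h := LinearMap.finrank_range_add_finrank_ker ev
    rw [LinearMap.range_eq_top.2 (fun c => ⟨c • φ0, by rw [map_smul, hφ0, smul_eq_mul, mul_one]⟩), finrank_top,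
      Module.finrank_self, Subspace.dual_finrank_eq, W.1.2.1] at h
    rw [Nat.card_congr he, Module.natCard_eq_pow_finrank (K := F), Nat.card_eq_fintype_card]
    congr 1
    omega
  rw [Finset.sum_congr rfl fun W _ => hD W, Finset.sum_const, Finset.card_univ, smul_eq_mul,
    Nat.card_eq_fintype_card (α := A), mul_comm]

/-- The alternating sum over the totally isotropic subspaces of the fixed space vanishes. -/
theorem sum_fixed_eq_zero (g : UIso B) (hg : g.1 ≠ LinearEquiv.refl F V) (m : ℕ)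
    (hbig : Nat.card (TISub B (m + 1)) = 0) :
    ∑ k ∈ Finset.range (m + 1), mu (Fintype.card F : ℤ) k * (Nat.card {W : TISub B k // ∀ x ∈ W.1, g.1 x = x} : ℤ) = 0 := by
  classical
  obtain ⟨r, hr0, hr, horth⟩ := exists_radical g hg
  set q := (Fintype.card F : ℤ)
  let a : ℕ → ℤ := fun k => Nat.card {W : TISub B k // W.1 ≤ fixSub g ∧ r ∈ W.1}
  have key : ∀ k, (Nat.card {W : TISub B k // ∀ x ∈ W.1, g.1 x = x} : ℤ) = a k + q ^ k * a (k + 1) := by
    intro k
    letI := Fintype.ofFinite (TISub B k)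
    have h1 : Nat.card {W : TISub B k // ∀ x ∈ W.1, g.1 x = x} =
        Nat.card {W : TISub B k // W.1 ≤ fixSub g ∧ r ∈ W.1} + Nat.card {W : TISub B k // W.1 ≤ fixSub g ∧ r ∉ W.1} := by
      simp only [Nat.card_eq_fintype_card, Fintype.card_subtype]
      rw [← Finset.card_union_of_disjoint (Finset.disjoint_filter.2 fun W _ h h' => h'.2 h.2), ← Finset.filter_or]
      refine congrArg Finset.card (Finset.filter_congr fun W _ => ?_)
      rw [show (∀ x ∈ W.1, g.1 x = x) ↔ W.1 ≤ fixSub g from Iff.rfl]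
      tauto
    rw [h1, card_missing hB (fixSub g) hr0 hr horth k]
    push_cast
    rfl
  have ha0 : a 0 = 0 := by
    have : IsEmpty {W : TISub B 0 // W.1 ≤ fixSub g ∧ r ∈ W.1} := ⟨fun W => hr0 (by
      have h0 : W.1.1 = ⊥ := Submodule.finrank_eq_zero.1 W.1.2.1
      exact (Submodule.mem_bot F).1 (h0 ▸ W.2.2))⟩
    simp [a]
  have ham : a (m + 1) = 0 := by
    rcases Nat.card_eq_zero.1 hbig with h | h
    · simp [a]
    · exact absurd (inferInstance : Finite (TISub B (m + 1))) (not_finite_iff_infinite.2 h)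
  have step : ∀ k ∈ Finset.range (m + 1),
      mu q k * (Nat.card {W : TISub B k // ∀ x ∈ W.1, g.1 x = x} : ℤ) = mu q k * a k - mu q (k + 1) * a (k + 1) := by
    intro k _
    rw [key, mu_succ]
    ring
  rw [Finset.sum_congr rfl step, Finset.sum_range_sub' (f := fun k => mu q k * a k), ha0, ham]
  simp

end Cfsg.Agent.SpUnipotentCount
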