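/-
Steinberg's count for symplectic spaces.
Main results (namespace `Cfsg.Agent.SpUnipotentCount`): `card_uiso`.
-/
import Cfsg.Agent.Lib.SpUnipotentCount.Cone

set_option autoImplicit false
set_option linter.unusedSectionVars false

namespace Cfsg.Agent.SpUnipotentCount

open Module LinearMap

variable {F : Type*} [Field F] [Fintype F]

theorem exists_partner {V : Type*} [AddCommGroup V] [Module F V] {B : V →ₗ[F] V →ₗ[F] F} (hB : Symp B) {v : V}
    (hv : v ≠ 0) : ∃ f, B v f = 1 := by
  obtain ⟨y, hy⟩ : ∃ y, B v y ≠ 0 := by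
    by_contra h
    push_neg at h
    exact hv (hB.nondeg v h)
  exact ⟨(B v y)⁻¹ • y, by rw [map_smul, smul_eq_mul, inv_mul_cancel₀ hy]⟩

/-- Pairs of a non-zero vector in a subspace. -/
theorem count_pairs {V : Type*} [AddCommGroup V] [Module F V] [FiniteDimensional F V] {T : Type*} [Finite T]
    (W : T → Submodule F V) (k c : ℕ) (hk : ∀ t, finrank F (W t) = k) (n : ℕ) (hn : finrank F V = n)
    (hc : ∀ v : V, v ≠ 0 → Nat.card {t // v ∈ W t} = c) :
    ((Fintype.card F : ℤ) ^ k - 1) * (Nat.card T : ℤ) = ((Fintype.card F : ℤ) ^ n - 1) * c := by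
  classical
  haveI : Finite V := Module.finite_of_finite F
  letI := Fintype.ofFinite V
  letI := Fintype.ofFinite T
  have h1 : ∀ t, ((Finset.univ.filter fun v : V => v ≠ 0 ∧ v ∈ W t).card : ℤ) = (Fintype.card F : ℤ) ^ k - 1 := by
    intro t
    have h : (Finset.univ.filter fun v : V => v ≠ 0 ∧ v ∈ W t) = (Finset.univ.filter fun v : V => v ∈ W t).erase 0 := by
      ext v; simp
    rw [h, Finset.card_erase_of_mem (by simp), ← Fintype.card_subtype, ← Nat.card_eq_fintype_card,
      show Nat.card {x // x ∈ W t} = Fintype.card F ^ k by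
        rw [Module.natCard_eq_pow_finrank (K := F), Nat.card_eq_fintype_card, hk],
      Nat.cast_sub (Nat.one_le_pow _ _ Fintype.card_pos)]
    push_cast
    ring
  have h2 : ((Finset.univ.filter fun v : V => v ≠ 0).card : ℤ) = (Fintype.card F : ℤ) ^ n - 1 := by
    rw [Finset.filter_ne' Finset.univ (0 : V), Finset.card_erase_of_mem (Finset.mem_univ _), Finset.card_univ,
      Module.card_eq_pow_finrank (K := F), hn, Nat.cast_sub (Nat.one_le_pow _ _ Fintype.card_pos)]
    push_cast
    ring
  have h3 : ∑ t : T, (Finset.univ.filter fun v : V => v ≠ 0 ∧ v ∈ W t).card =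
      ∑ v ∈ Finset.univ.filter (fun v : V => v ≠ 0), (Finset.univ.filter fun t : T => v ∈ W t).card := by
    simp only [Finset.card_filter, Finset.sum_filter]
    rw [Finset.sum_comm]
    refine Finset.sum_congr rfl fun v _ => ?_
    by_cases hv : v = 0 <;> simp [hv]
  have h5 : ∀ v ∈ Finset.univ.filter (fun v : V => v ≠ 0), (Finset.univ.filter fun t : T => v ∈ W t).card = c :=
    fun v hv => by
      rw [← hc v (Finset.mem_filter.1 hv).2, Nat.card_eq_fintype_card, Fintype.card_subtype]
  rw [Finset.sum_congr rfl h5] at h3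
  have h4 := congrArg (Nat.cast (R := ℤ)) h3
  push_cast at h4
  rw [Finset.sum_congr rfl fun t _ => h1 t, Finset.sum_const, Finset.sum_const, nsmul_eq_mul, nsmul_eq_mul, h2,
    Finset.card_univ, ← Nat.card_eq_fintype_card] at h4
  linear_combination h4

/-- The subspace of dimension zero. -/
theorem card_zero {V : Type*} [AddCommGroup V] [Module F V] [FiniteDimensional F V] (B : V →ₗ[F] V →ₗ[F] F) :
    Nat.card (TISub B 0) = 1 := by
  rw [Nat.card_eq_one_iff_unique]
  refine ⟨⟨fun W W' => Subtype.ext ((Submodule.finrank_eq_zero.1 W.2.1).trans (Submodule.finrank_eq_zero.1 W'.2.1).symm)⟩,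
    ⟨⟨⊥, finrank_bot F V, fun x hx y _ => by rw [(Submodule.mem_bot F).1 hx]; simp⟩⟩⟩

theorem card_flag_zero {V : Type*} [AddCommGroup V] [Module F V] [FiniteDimensional F V] (B : V →ₗ[F] V →ₗ[F] F) :
    Nat.card (Flag B 0) = Nat.card (UIso B) := by
  obtain ⟨⟨hs⟩, ⟨W⟩⟩ := Nat.card_eq_one_iff_unique.1 (card_zero B)
  refine Nat.card_congr
    { toFun := fun p => p.1.2
      invFun := fun g => ⟨(W, g), fun x hx => by
        rw [Submodule.finrank_eq_zero.1 W.2.1, Submodule.mem_bot] at hx
        rw [hx, map_zero]⟩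
      left_inv := fun p => Subtype.ext (Prod.ext (hs _ _) rfl)
      right_inv := fun g => rfl }

universe u

/-- The counts in dimension `2m`. -/
theorem counts (m : ℕ) : ∀ (V : Type u) [AddCommGroup V] [Module F V] [FiniteDimensional F V]
    (B : V →ₗ[F] V →ₗ[F] F), Symp B → finrank F V = 2 * m →
    (∀ k, (Nat.card (TISub B k) : ℤ) = bb (Fintype.card F : ℤ) m k) ∧
    (∀ k, (Nat.card (Flag B k) : ℤ) = bb (Fintype.card F : ℤ) m k * (Fintype.card F : ℤ) ^ ex m k) := by
  classical
  set q : ℤ := (Fintype.card F : ℤ) with hqdef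
  have hq : 2 ≤ q := by rw [hqdef]; exact_mod_cast Fintype.one_lt_card (α := F)
  induction m with
  | zero =>
    intro V _ _ _ B hB hV
    haveI : Subsingleton V := Module.finrank_zero_iff.1 hV
    have hU : Nat.card (UIso B) = 1 := by
      rw [Nat.card_eq_one_iff_unique]
      refine ⟨⟨fun g h => Subtype.ext (LinearEquiv.ext fun x => Subsingleton.elim _ _)⟩,
        ⟨⟨LinearEquiv.refl F V, fun x y => rfl, ⟨1, LinearMap.ext fun x => Subsingleton.elim _ _⟩⟩⟩⟩
    refine ⟨fun k => ?_, fun k => ?_⟩
    · cases k with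
      | zero => rw [card_zero, bb_zero]; rfl
      | succ k =>
        haveI : IsEmpty (TISub B (k + 1)) := ⟨fun W => by
          have := Submodule.finrank_le W.1
          rw [W.2.1, hV] at this
          omega⟩
        simp [bb]
    · cases k with
      | zero => rw [card_flag_zero, hU]; simp [bb, ex_zero]
      | succ k =>
        haveI : IsEmpty (Flag B (k + 1)) := ⟨fun p => by
          have := Submodule.finrank_le p.1.1.1
          rw [p.1.1.2.1, hV] at this
          omega⟩
        simp [bb]
  | succ m ih =>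
    intro V _ _ _ B hB hV
    have sub : ∀ {v f : V}, B v f = 1 → finrank F (perp B v f) = 2 * m := fun hvf => by
      have := finrank_perp hB hvf
      omega
    have hne : ∀ k : ℕ, q ^ (k + 1) - 1 ≠ 0 := fun k => by
      have : q ≤ q ^ (k + 1) := le_self_pow₀ (by omega) (by omega)
      omega
    obtain ⟨v0, hv0⟩ : ∃ v0 : V, v0 ≠ 0 := by
      haveI : Nontrivial V := Module.nontrivial_of_finrank_pos (R := F) (by omega)
      exact exists_ne 0
    obtain ⟨f0, hf0⟩ := exists_partner hB hv0
    have nnS : ∀ k, (Nat.card (TISub B (k + 1)) : ℤ) = bb q (m + 1) (k + 1) := by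
      intro k
      refine mul_left_cancel₀ (hne k) ?_
      rw [count_pairs (fun W : TISub B (k + 1) => W.1) (k + 1) (Nat.card (TISub (rest B v0 f0) k)) (fun W => W.2.1) _ hV
        (fun v hv => ?_), (ih _ _ (symp_rest hB hf0) (sub hf0)).1 k, bb_ratio hq]
      obtain ⟨f, hf⟩ := exists_partner hB hv
      rw [step_nn hB hf]
      exact_mod_cast ((ih _ _ (symp_rest hB hf) (sub hf)).1 k).trans ((ih _ _ (symp_rest hB hf0) (sub hf0)).1 k).symm
    have aaS : ∀ k, (Nat.card (Flag B (k + 1)) : ℤ) = bb q (m + 1) (k + 1) * q ^ ex (m + 1) (k + 1) := by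
      intro k
      refine mul_left_cancel₀ (hne k) ?_
      rw [count_pairs (fun p : Flag B (k + 1) => p.1.1.1) (k + 1)
        (Fintype.card F ^ (1 + (2 * m - k)) * Nat.card (Flag (rest B v0 f0) k)) (fun p => p.1.1.2.1) _ hV (fun v hv => ?_)]
      · push_cast
        rw [(ih _ _ (symp_rest hB hf0) (sub hf0)).2 k, ← hqdef, ← mul_assoc (q ^ (k + 1) - 1), bb_ratio hq, ex]
        by_cases hk : k ≤ m
        · rw [show 1 + (2 * m - k) = 2 * m + 1 - k by omega, pow_add]
          ring
        · rw [bb_of_lt q (show m < k by omega)]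
          ring
      · obtain ⟨f, hf⟩ := exists_partner hB hv
        rw [step_aa hB hf, sub hf]
        congr 1
        exact_mod_cast ((ih _ _ (symp_rest hB hf) (sub hf)).2 k).trans ((ih _ _ (symp_rest hB hf0) (sub hf0)).2 k).symm
    have nn : ∀ k, (Nat.card (TISub B k) : ℤ) = bb q (m + 1) k := by
      intro k
      cases k with
      | zero => rw [card_zero, bb_zero]; rfl
      | succ k => exact nnS k
    refine ⟨nn, fun k => ?_⟩
    cases k with
    | succ k => exact aaS k
    | zero =>
      let one : UIso B := ⟨LinearEquiv.refl F V, fun x y => rfl, ⟨1, by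
        rw [pow_one]; exact LinearMap.ext fun x => sub_self x⟩⟩
      letI := Fintype.ofFinite (UIso B)
      have main : ∑ k ∈ Finset.range (m + 1 + 1), mu q k * (Nat.card (Flag B k) : ℤ) =
          ∑ k ∈ Finset.range (m + 1 + 1), mu q k * (Nat.card (TISub B k) : ℤ) := by
        have swap : ∀ k, (Nat.card (Flag B k) : ℤ) =
            ∑ g : UIso B, (Nat.card {W : TISub B k // ∀ x ∈ W.1, g.1 x = x} : ℤ) := by
          intro k
          let e : Flag B k ≃ Σ g : UIso B, {W : TISub B k // ∀ x ∈ W.1, g.1 x = x} :=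
            { toFun := fun p => ⟨p.1.2, p.1.1, p.2⟩
              invFun := fun s => ⟨(s.2.1, s.1), s.2.2⟩
              left_inv := fun p => rfl
              right_inv := fun s => rfl }
          rw [Nat.card_congr e, Nat.card_sigma, Nat.cast_sum]
        simp only [swap, Finset.mul_sum]
        rw [Finset.sum_comm, Finset.sum_eq_single one]
        · refine Finset.sum_congr rfl fun k _ => ?_
          exact congrArg (fun t : ℕ => mu q k * (t : ℤ)) (Nat.card_congr (Equiv.subtypeUnivEquiv fun W x _ => rfl))
        · intro g _ hg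
          refine sum_fixed_eq_zero hB g (fun h => hg (Subtype.ext h)) (m + 1) ?_
          have := nn (m + 1 + 1)
          rw [bb_of_lt q (by omega)] at this
          exact_mod_cast this
        · intro h
          exact absurd (Finset.mem_univ _) h
      simp only [nn] at main
      rw [sum_mu_bb, Finset.sum_range_succ'] at main
      simp only [aaS] at main
      have id2 := sum_mu_aa q (m + 1)
      rw [Finset.sum_range_succ'] at id2
      rw [mu_zero, one_mul] at main id2
      linear_combination main - id2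

/-- Steinberg's count. -/
theorem card_uiso (m : ℕ) (V : Type u) [AddCommGroup V] [Module F V] [FiniteDimensional F V]
    (B : V →ₗ[F] V →ₗ[F] F) (hB : Symp B) (hV : finrank F V = 2 * m) :
    Nat.card (UIso B) = Fintype.card F ^ (2 * m ^ 2) := by
  have h := (counts m V B hB hV).2 0
  rw [card_flag_zero, bb_zero, ex_zero, one_mul] at h
  exact_mod_cast h

end Cfsg.Agent.SpUnipotentCount
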